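import Cfsg.Agent.H73.Suz.Invol
import Cfsg.Agent.H92.ExtraForm
import Cfsg.Agent.H92.LargeSimple
import Cfsg.Agent.H92.ExtraIso
import Cfsg.Agent.Orthogonal.Index2Iso

/-!
Groups of Suzuki sporadic type: the centraliser of the central involution acts on the quadratic
space of the extraspecial core as the commutator subgroup of the orthogonal group.
-/

set_option autoImplicit false
set_option linter.style.haveILetI false
set_option linter.unusedSectionVars false

namespace Cfsg.Agent.H73.Suz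

open QuadraticMap Cfsg.Agent.Orthogonal Cfsg.Agent.H92.ExtraForm Subgroup

variable {G : Type*} [Group G] [Finite G]

/-- The working hypotheses, with the quadratic space in coordinates. -/
structure Setup (z : G) (Q : Subgroup G) where
  hzo : orderOf z = 2
  hzQ : z ∈ Q
  le : ∀ q ∈ Q, q * z = z * q
  norm : ∀ c : G, c * z = z * c → ∀ q ∈ Q, c * q * c⁻¹ ∈ Q
  π : G → V6
  π_mul : ∀ a ∈ Q, ∀ b ∈ Q, π (a * b) = π a + π b
  π_surj : ∀ v, ∃ q ∈ Q, π q = v
  π_zero : ∀ q ∈ Q, π q = 0 ↔ (q = 1 ∨ q = z)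
  sq : ∀ q ∈ Q, q * q = zp z (phi (π q))
  comm : ∀ q ∈ Q, ∀ r ∈ Q, r * q = q * r * zp z (polar (⇑phi) (π q) (π r))
  ρ : G → O phi
  ρ_mul : ∀ c d : G, c * z = z * c → d * z = z * d → ρ (c * d) = ρ c * ρ d
  ρ_π : ∀ c : G, c * z = z * c → ∀ q ∈ Q, π (c * q * c⁻¹) = (ρ c : V6 ≃ₗ[ZMod 2] V6) (π q)
  ρ_ker : ∀ c : G, c * z = z * c → (ρ c = 1 ↔ c ∈ Q)
  ρ_mem : ∀ c : G, c * z = z * c → ρ c ∈ commutator (O phi)
  ρ_surj : ∀ k ∈ commutator (O phi), ∃ c : G, c * z = z * c ∧ ρ c = k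
  nwc : ∃ g : G, g * z * g⁻¹ ∈ Q ∧ g * z * g⁻¹ ≠ z

/-- The action of a group on the quadratic space of a normal extraspecial subgroup containing
its centraliser. -/
noncomputable def act {C : Type*} [Group C] {Q : Subgroup C} [Q.Normal] {U : Type*}
    [AddCommGroup U] [Module (ZMod 2) U] {Q' : QuadraticForm (ZMod 2) U}
    (F : FormMap Q U Q') : C →* O Q' :=
  F.toIso.comp MulAut.conjNormal

theorem act_apply {C : Type*} [Group C] {Q : Subgroup C} [Q.Normal] {U : Type*}
    [AddCommGroup U] [Module (ZMod 2) U] {Q' : QuadraticForm (ZMod 2) U}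
    (F : FormMap Q U Q') (c : C) (x : Q) :
    (act F c : U ≃ₗ[ZMod 2] U) (F.π x) = F.π (MulAut.conjNormal c x) :=
  F.induced_π _ x

theorem act_ker {C : Type*} [Group C] [Finite C] {Q : Subgroup C} [Q.Normal]
    (hQ : Cfsg.IsExtraspecial 2 Q) (hcen : ∀ c : C, (∀ q ∈ Q, q * c = c * q) → c ∈ Q)
    {U : Type*} [AddCommGroup U] [Module (ZMod 2) U] {Q' : QuadraticForm (ZMod 2) U}
    (F : FormMap Q U Q') : (act F).ker = Q := by
  ext c
  rw [act, ← MonoidHom.comap_ker, F.toIso_ker hQ, mem_comap]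
  constructor
  · rintro ⟨q, hq⟩
    have hc : (q : C)⁻¹ * c ∈ Q := hcen _ fun r hr => by
      have := congrArg (fun f : MulAut Q => ((f ⟨r, hr⟩ : Q) : C)) hq
      simp only [MulAut.conj_apply, MulAut.conjNormal_apply, Subgroup.coe_mul,
        InvMemClass.coe_inv] at this
      calc r * ((q : C)⁻¹ * c) = (q : C)⁻¹ * ((q : C) * r * (q : C)⁻¹) * c := by group
        _ = (q : C)⁻¹ * c * r := by rw [this]; group
    simpa using mul_mem q.2 hc
  · intro hc
    exact ⟨⟨c, hc⟩, MulEquiv.ext fun x => Subtype.ext (by simp [MulAut.conjNormal_apply])⟩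

theorem setup_of {z : G} (hz : orderOf z = 2) (Q : Subgroup (centralizer ({z} : Set G)))
    [Q.Normal] (hF : Cfsg.generalizedFittingSubgroup (centralizer ({z} : Set G)) = Q)
    (hQ : Cfsg.IsExtraspecial 2 Q) (hcard : Nat.card Q = 2 ^ 7)
    (e : (centralizer ({z} : Set G)) ⧸ Q ≃*
      Cfsg.Omega (ZMod 2) (Cfsg.quadFormMinus 2 (ZMod 2) 1 1))
    (hnwc : ∃ g : G, (∃ hq : g * z * g⁻¹ ∈ centralizer ({z} : Set G),
      (⟨g * z * g⁻¹, hq⟩ : centralizer ({z} : Set G)) ∈ Q) ∧ g * z * g⁻¹ ≠ z) :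
    Nonempty (Setup z (Q.map (centralizer ({z} : Set G)).subtype)) := by
  classical
  obtain ⟨hzZ, hcenG, -, -⟩ := H92.centralizer_setting (map_subtype_le Q) (by rw [hF])
  have hcen : ∀ c : (centralizer ({z} : Set G)), (∀ q ∈ Q, q * c = c * q) → c ∈ Q := by
    intro c hc
    have h1 : (c : G) ∈ centralizer ((Q.map (centralizer ({z} : Set G)).subtype : Subgroup G) : Set G) :=
      mem_centralizer_iff.mpr fun q hq => by
        obtain ⟨r, hr, rfl⟩ := hq
        exact congrArg Subtype.val (hc r hr)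
    rw [hcenG] at h1
    obtain ⟨r, hr, hre⟩ := H92.center_map_le h1
    exact (Subtype.ext hre : r = c) ▸ hr
  have hidx : Q.index = 25920 := by
    rw [index_eq_card, Nat.card_congr e.toEquiv, card_omega_six]
  obtain ⟨hm⟩ : Nonempty (FormMap Q ((Fin 2 ⊕ Fin 2) ⊕ Fin 2 → ZMod 2)
      (formMinus (ZMod 2) 2 1 1)) := by
    rcases exists_formMap hQ 3 (by norm_num) (by rw [hcard]) with h' | h
    · exfalso
      obtain ⟨F⟩ := h'
      have h1 := index_ker (act F)
      rw [act_ker hQ hcen F, hidx] at h1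
      have h2 := card_subgroup_dvd_card (act F).range
      rw [← h1, card_O_plus_six] at h2
      norm_num at h2
    · exact h
  set iso := congrO (Q := formMinus (ZMod 2) 2 1 1) (Q' := phi) coordEquiv.symm
    (fun x => by show formMinus (ZMod 2) 2 1 1 (coordEquiv (coordEquiv.symm x)) = _
                 rw [coordEquiv.apply_symm_apply]) with hiso
  set r : (centralizer ({z} : Set G)) →* O phi := iso.toMonoidHom.comp (act hm) with hr
  have hker : r.ker = Q := by
    rw [← act_ker hQ hcen hm]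
    ext c
    simp [hr, MonoidHom.mem_ker]
  have hcr : Nat.card r.range = 25920 := by rw [← index_ker, hker, hidx]
  have hrange : r.range = commutator (O phi) := by
    have h := card_mul_index r.range
    rw [hcr, card_O_six] at h
    have hle := commutator_le_of_index_two r.range (by omega)
    haveI : Finite (O phi) := Nat.finite_of_card_ne_zero (by rw [card_O_six]; norm_num)
    exact (eq_of_le_of_card_ge hle (by rw [hcr, card_K])).symm
  have hmemC : ∀ c : G, c * z = z * c → c ∈ (centralizer ({z} : Set G)) := fun c hc =>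
    mem_centralizer_singleton_iff.mpr hc
  let lift : G → (centralizer ({z} : Set G)) := fun x => if h : x ∈ (centralizer ({z} : Set G)) then ⟨x, h⟩ else 1
  have lift_eq : ∀ c : (centralizer ({z} : Set G)), lift c = c := fun c => by simp [lift, c.2]
  have lift_of : ∀ x (h : x ∈ (centralizer ({z} : Set G))), lift x = ⟨x, h⟩ := fun x h => by simp [lift, h]
  let pi : G → V6 := fun x => if h : lift x ∈ Q then coordEquiv.symm (hm.π ⟨lift x, h⟩) else 0
  have pi_eq : ∀ q : Q, pi ((q : (centralizer ({z} : Set G))) : G) = coordEquiv.symm (hm.π q) := fun q => by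
    simp [pi, lift_eq]
  have hzlift : ((hm.z : (centralizer ({z} : Set G))) : G) = z := by
    have hc := (hm.mem_center hm.z).mpr (Or.inr rfl)
    have hzQ : z ∈ Q.map (centralizer ({z} : Set G)).subtype := H92.center_map_le hzZ
    obtain ⟨w, hw, hwz⟩ := hzQ
    have hwc : (⟨w, hw⟩ : Q) ∈ center Q := mem_center_iff.mpr fun q =>
      Subtype.ext (Subtype.ext (by
        show ((q : (centralizer ({z} : Set G))) : G) * (w : G) = (w : G) * ((q : (centralizer ({z} : Set G))) : G)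
        rw [show (w : G) = z from hwz]
        exact mem_centralizer_singleton_iff.mp (q : (centralizer ({z} : Set G))).2))
    rcases (hm.mem_center _).mp hwc with e' | e'
    · exfalso
      have : z = 1 := by
        rw [← hwz, show w = 1 from congrArg Subtype.val e']; rfl
      rw [this, orderOf_one] at hz
      omega
    · exact (congrArg (fun x : Q => ((x : centralizer ({z} : Set G)) : G)) e').symm.trans hwz
  have hzp : ∀ a : ZMod 2, ((((zp hm.z a : Q) : (centralizer ({z} : Set G)))) : G) = zp z a := fun a => by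
    unfold zp
    split_ifs <;> simp [hzlift]
  refine ⟨{
    hzo := hz
    hzQ := H92.center_map_le hzZ
    le := fun q hq => by
      obtain ⟨q, -, rfl⟩ := hq
      exact mem_centralizer_singleton_iff.mp q.2
    norm := fun c hc q hq => by
      obtain ⟨q, hq, rfl⟩ := hq
      exact ⟨⟨c, hmemC c hc⟩ * q * ⟨c, hmemC c hc⟩⁻¹, ‹Q.Normal›.conj_mem q hq _, rfl⟩
    π := pi
    π_mul := ?_, π_surj := ?_, π_zero := ?_, sq := ?_, comm := ?_
    ρ := fun x => r (lift x)
    ρ_mul := fun c d hc hd => by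
      rw [← map_mul]
      congr 1
      rw [lift_of c (hmemC c hc), lift_of d (hmemC d hd),
        lift_of _ (mul_mem (hmemC c hc) (hmemC d hd))]
      rfl
    ρ_π := ?_, ρ_ker := ?_
    ρ_mem := fun c hc => hrange ▸ ⟨_, rfl⟩
    ρ_surj := ?_, nwc := ?_ }⟩
  · rintro - ⟨a, ha, rfl⟩ - ⟨b, hb, rfl⟩
    show pi (((⟨a, ha⟩ * ⟨b, hb⟩ : Q) : (centralizer ({z} : Set G))) : G) =
      pi (((⟨a, ha⟩ : Q) : (centralizer ({z} : Set G))) : G) + pi (((⟨b, hb⟩ : Q) : (centralizer ({z} : Set G))) : G)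
    rw [pi_eq, pi_eq, pi_eq, hm.π_mul, map_add]
  · intro v
    obtain ⟨q, hq⟩ := hm.surj (coordEquiv v)
    exact ⟨_, ⟨q, q.2, rfl⟩, by
      show pi ((q : (centralizer ({z} : Set G))) : G) = v
      rw [pi_eq, hq, coordEquiv.symm_apply_apply]⟩
  · rintro - ⟨a, ha, rfl⟩
    show pi (((⟨a, ha⟩ : Q) : (centralizer ({z} : Set G))) : G) = 0 ↔ _
    rw [pi_eq, LinearEquiv.map_eq_zero_iff, hm.π_eq_zero]
    constructor
    · rintro (e' | e')
      · exact Or.inl (congrArg (fun x : Q => ((x : centralizer ({z} : Set G)) : G)) e')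
      · exact Or.inr ((congrArg (fun x : Q => ((x : centralizer ({z} : Set G)) : G)) e').trans hzlift)
    · rintro (e' | e')
      · exact Or.inl (Subtype.ext (Subtype.ext e'))
      · exact Or.inr (Subtype.ext (Subtype.ext (e'.trans hzlift.symm)))
  · rintro - ⟨a, ha, rfl⟩
    show (((⟨a, ha⟩ * ⟨a, ha⟩ : Q) : (centralizer ({z} : Set G))) : G) = zp z (phi (pi (((⟨a, ha⟩ : Q) : (centralizer ({z} : Set G))) : G)))
    rw [pi_eq, hm.sq, hzp]
    congr 1
  · rintro - ⟨a, ha, rfl⟩ - ⟨b, hb, rfl⟩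
    show (((⟨b, hb⟩ * ⟨a, ha⟩ : Q) : (centralizer ({z} : Set G))) : G) = (((⟨a, ha⟩ * ⟨b, hb⟩ : Q) : (centralizer ({z} : Set G))) : G) *
      zp z (polar (⇑phi) (pi (((⟨a, ha⟩ : Q) : (centralizer ({z} : Set G))) : G)) (pi (((⟨b, hb⟩ : Q) : (centralizer ({z} : Set G))) : G)))
    rw [pi_eq, pi_eq, hm.comm ⟨a, ha⟩ ⟨b, hb⟩, Subgroup.coe_mul, Subgroup.coe_mul, hzp]
    congr 2
  · rintro c hc - ⟨a, ha, rfl⟩
    show pi (c * (((⟨a, ha⟩ : Q) : (centralizer ({z} : Set G))) : G) * c⁻¹) =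
      (r (lift c) : V6 ≃ₗ[ZMod 2] V6) (pi (((⟨a, ha⟩ : Q) : (centralizer ({z} : Set G))) : G))
    rw [lift_of c (hmemC c hc), pi_eq,
      show c * (((⟨a, ha⟩ : Q) : (centralizer ({z} : Set G))) : G) * c⁻¹ =
        (((MulAut.conjNormal (⟨c, hmemC c hc⟩ : (centralizer ({z} : Set G))) ⟨a, ha⟩ : Q) : (centralizer ({z} : Set G))) : G) from rfl, pi_eq,
      hr, MonoidHom.comp_apply, MulEquiv.coe_toMonoidHom, hiso, congrO_apply,
      LinearEquiv.symm_symm, coordEquiv.apply_symm_apply, act_apply]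
  · intro c hc
    show r (lift c) = 1 ↔ _
    rw [lift_of c (hmemC c hc), ← MonoidHom.mem_ker, hker]
    refine ⟨fun h => ⟨_, h, rfl⟩, fun ⟨x, hx, hxe⟩ => ?_⟩
    exact (Subtype.ext hxe : x = ⟨c, hmemC c hc⟩) ▸ hx
  · intro k hk
    rw [← hrange] at hk
    obtain ⟨c, rfl⟩ := hk
    exact ⟨c, mem_centralizer_singleton_iff.mp c.2, by show r (lift c) = r c; rw [lift_eq]⟩
  · obtain ⟨g, ⟨hq, hm'⟩, hne⟩ := hnwc
    exact ⟨g, ⟨_, hm', rfl⟩, hne⟩

end Cfsg.Agent.H73.Suz
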