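import Cfsg.Agent.H73.Suz.UFacts

/-!
Isometries of the six-dimensional elliptic space: involutions of the commutator subgroup and
elements of order five.
-/

set_option autoImplicit false
set_option linter.style.haveILetI false

namespace Cfsg.Agent.H73.Suz

open QuadraticMap Cfsg.Agent.Orthogonal Module

theorem two_cases' : ∀ a : ZMod 2, a = 0 ∨ a = 1 := by decide

theorem add_self' : ∀ y : V6, y + y = 0 := by
  rintro ⟨⟨c, d⟩, x, y, a, b⟩
  simp [CharTwo.add_self_eq_zero, Prod.ext_iff]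

theorem sub_eq_add' (x y : V6) : x - y = x + y :=
  sub_eq_of_eq_add (by rw [add_assoc, add_self', add_zero])

theorem eq_of_add_eq_zero' {x y : V6} (h : x + y = 0) : x = y := by
  rw [← sub_eq_add'] at h; exact sub_eq_zero.mp h

/-- The Siegel transvections along `v0`. -/
noncomputable def E (u : U4) : O phi :=
  sie v0 (emb u) phi_v0 (by rw [polar_v0]; rfl)

theorem E_app (u : U4) (y : V6) :
    (E u : V6 ≃ₗ[ZMod 2] V6) y =
      ((y.1.1 + fU u y.2 + qU u * y.1.2, y.1.2), y.2 + y.1.2 • u) := by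
  rw [E, sie_app, polar_emb, phi_emb, polar_v0, sub_eq_add', CharTwo.sub_eq_add]
  obtain ⟨⟨c, d⟩, w⟩ := y
  simp only [v0, emb, Prod.smul_mk, Prod.mk_add_mk, smul_eq_mul, mul_one, mul_zero, add_zero,
    smul_zero, ← add_assoc]

theorem E_v0 (u : U4) : (E u : V6 ≃ₗ[ZMod 2] V6) v0 = v0 := by
  rw [E_app]; revert u; decide

theorem E_f0 (u : U4) : (E u : V6 ≃ₗ[ZMod 2] V6) f0 = ((qU u, 1), u) := by
  rw [E_app]
  have h : fU u 0 = 0 := by revert u; decide
  simp [f0, h]

theorem E_injective : Function.Injective E := fun u u' h => by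
  have := congrArg (fun g : O phi => ((g : V6 ≃ₗ[ZMod 2] V6) f0).2) h
  simpa [E_f0] using this

theorem E_zero : E 0 = 1 := O.ext_app fun y => by
  rw [E_app]
  have h : fU 0 y.2 = 0 ∧ qU 0 = 0 := ⟨by
    generalize y.2 = w
    revert w; decide, by decide⟩
  simp [h.1, h.2]

theorem E_mem_K (u : U4) : E u ∈ commutator (O phi) := by
  rw [← sieGroup_eq_commutator phi_nondeg (by rw [finrank_V6]; norm_num)]
  exact sie_mem _ _

/-- The commutator subgroup is transitive on singular vectors. -/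
theorem exists_K_map {v : V6} (hv0 : v ≠ 0) (hv : phi v = 0) :
    ∃ g ∈ commutator (O phi), (g : V6 ≃ₗ[ZMod 2] V6) v = v0 := by
  obtain ⟨g, hg, s, hs, hgv⟩ :=
    exists_sie_point phi_nondeg (by rw [finrank_V6]; norm_num) hv0 v0_ne hv phi_v0
  refine ⟨g, by rwa [← sieGroup_eq_commutator phi_nondeg (by rw [finrank_V6]; norm_num)], ?_⟩
  rw [hgv, (two_cases' s).resolve_left hs, one_smul]

theorem polar_fixed {g : O phi} (hg : (g : V6 ≃ₗ[ZMod 2] V6) v0 = v0) (y : V6) :
    polar (⇑phi) v0 ((g : V6 ≃ₗ[ZMod 2] V6) y) = polar (⇑phi) v0 y := by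
  conv_lhs => rw [← hg]
  rw [O.polar_app]

/-- The kernel of the action of the stabiliser of `v0` on the residue. -/
theorem eq_E {g : O phi} (hv : (g : V6 ≃ₗ[ZMod 2] V6) v0 = v0)
    (h : ∀ y, polar (⇑phi) v0 y = 0 → ((g : V6 ≃ₗ[ZMod 2] V6) y).2 = y.2) :
    ∃ u, g = E u := by
  obtain ⟨⟨⟨c, d⟩, u⟩, hw⟩ : ∃ w, (g : V6 ≃ₗ[ZMod 2] V6) f0 = w := ⟨_, rfl⟩
  · have hd : d = 1 := by
      have := polar_fixed hv f0
      rw [hw, polar_v0, polar_v0] at this
      exact this
    subst hd
    have hc : c = qU u := by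
      have := O.map_app g f0
      rw [hw, phi_apply, phi_apply] at this
      have h0 : (f0.1.1 * f0.1.2 + qU f0.2 : ZMod 2) = 0 := by decide
      rw [h0, mul_one] at this
      exact CharTwo.add_eq_zero.mp this
    subst hc
    refine ⟨u, O.ext_app fun y => ?_⟩
    set y' := y - y.1.2 • f0 with hy'
    have hp : polar (⇑phi) v0 y' = 0 := by
      rw [polar_v0, hy']; simp [f0]
    have h2 := h y' hp
    have hd' : ((g : V6 ≃ₗ[ZMod 2] V6) y').1.2 = 0 := by
      rw [← polar_v0, polar_fixed hv, hp]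
    have h3 := O.polar_app g y' f0
    rw [hw, polar_phi, polar_phi, hd', h2] at h3
    have hy1 : y'.1.1 = y.1.1 ∧ y'.1.2 = 0 ∧ y'.2 = y.2 := by
      simp [hy', f0]
    rw [hy1.2.2, hy1.1, hy1.2.1] at h3
    have h0 : fU y.2 (f0.2) = 0 := by
      generalize y.2 = w
      revert w; decide
    rw [h0, show f0.1.1 = 0 from rfl, show f0.1.2 = 1 from rfl] at h3
    rw [hy1.2.2] at h2
    have hg : (g : V6 ≃ₗ[ZMod 2] V6) y =
        (g : V6 ≃ₗ[ZMod 2] V6) y' + y.1.2 • (g : V6 ≃ₗ[ZMod 2] V6) f0 := by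
      rw [← map_smul, ← map_add, hy', sub_add_cancel]
    rw [hg, hw, E_app]
    generalize (g : V6 ≃ₗ[ZMod 2] V6) y' = r at h3 h2 hd'
    obtain ⟨⟨rc, rd⟩, rw'⟩ := r
    simp only at h3 h2 hd'
    subst hd' h2
    obtain ⟨⟨yc, yd⟩, yu⟩ := y
    simp only [Prod.smul_mk, Prod.mk_add_mk, smul_eq_mul, mul_one, zero_add, mul_zero,
      add_zero] at h3 ⊢
    rw [fU_comm u yu]
    simp only [Prod.mk.injEq, and_true]
    rw [show rc = yc + fU yu u from by
      rw [← h3, add_assoc, CharTwo.add_self_eq_zero, add_zero]]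
    ring

/-- Involutions of the commutator subgroup are conjugate to Siegel transvections. -/
theorem exists_conj_E {g : O phi} (hg : g ∈ commutator (O phi)) (h2 : g * g = 1) (h1 : g ≠ 1) :
    ∃ k ∈ commutator (O phi), ∃ u : U4, u ≠ 0 ∧ k * g * k⁻¹ = E u := by
  have hrange := range_sub_eq_perp_fixSpace phi_nondeg g
  have hgg : ∀ x, (g : V6 ≃ₗ[ZMod 2] V6) ((g : V6 ≃ₗ[ZMod 2] V6) x) = x := fun x => by
    rw [← mul_app, ← Subgroup.coe_mul, h2]; rfl
  have hle : perp phi (fixSpace g) ≤ fixSpace g := by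
    rw [← hrange]
    rintro - ⟨x, rfl⟩
    rw [mem_fixSpace]
    simp only [LinearMap.sub_apply, LinearEquiv.coe_coe, LinearMap.id_apply, map_sub, hgg]
    rw [sub_eq_add', sub_eq_add', add_comm]
  have hsum := phi_nondeg.finrank_add_perp (fixSpace g)
  have hmono := Submodule.finrank_mono hle
  have hd := (mem_K_iff g).mp hg
  rw [dickson_apply, dicksonSign, neg_one_pow_eq_one_iff_even (by decide), finrank_V6] at hd
  rw [finrank_V6] at hsum
  have hpos : finrank (ZMod 2) (perp phi (fixSpace g)) ≠ 0 := fun h0 => by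
    refine h1 (O.ext_app fun x => ?_)
    have hx : ((g : V6 ≃ₗ[ZMod 2] V6) : V6 →ₗ[ZMod 2] V6) x - x ∈ perp phi (fixSpace g) := by
      rw [← hrange]; exact ⟨x, rfl⟩
    rw [Submodule.finrank_eq_zero.mp h0, Submodule.mem_bot, sub_eq_zero] at hx
    simpa using hx
  have hfin : finrank (ZMod 2) (perp phi (fixSpace g)) = 2 := by
    obtain ⟨r, hr⟩ := hd
    omega
  set I := perp phi (fixSpace g) with hI
  have hperpI : perp phi I = fixSpace g := phi_nondeg.perp_perp _
  have hcard : Nat.card I = 4 := by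
    rw [natCard_eq_pow_finrank (K := ZMod 2), hfin, Nat.card_zmod]; norm_num
  -- a nonzero singular vector in the range
  have hiso : ∀ a ∈ I, ∀ b ∈ I, polar (⇑phi) a b = 0 := fun a ha b hb => by
    have := (mem_perp phi).mp ha b (hle hb)
    rwa [polar_comm]
  obtain ⟨v, hvI, hv0, hv⟩ : ∃ v ∈ I, v ≠ 0 ∧ phi v = 0 := by
    have : Nontrivial I := Module.finrank_pos_iff.mp (by omega : 0 < finrank (ZMod 2) I)
    obtain ⟨⟨a, ha⟩, ha0⟩ := exists_ne (0 : I)
    have ha0' : a ≠ 0 := fun e => ha0 (Subtype.ext e)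
    obtain ⟨b, hb, hb0, hba⟩ : ∃ b ∈ I, b ≠ 0 ∧ b ≠ a := by
      by_contra hno
      push Not at hno
      have hsub : (I : Set V6) ⊆ {0, a} := fun b hb => by
        by_cases e : b = 0
        · exact Or.inl e
        · exact Or.inr (hno b hb e)
      have := Nat.card_mono (Set.toFinite ({0, a} : Set V6)) hsub
      rw [show Nat.card (I : Set V6) = 4 from hcard,
        Nat.card_coe_set_eq, Set.ncard_pair (Ne.symm ha0')] at this
      omega
    rcases two_cases' (phi a) with e | e
    · exact ⟨a, ha, ha0', e⟩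
    rcases two_cases' (phi b) with e' | e'
    · exact ⟨b, hb, hb0, e'⟩
    refine ⟨a + b, add_mem ha hb, fun e0 => hba (eq_of_add_eq_zero' e0).symm, ?_⟩
    rw [map_add_polar, hiso a ha b hb, e, e']; rfl
  obtain ⟨k, hk, hkv⟩ := exists_K_map hv0 hv
  refine ⟨k, hk, ?_⟩
  set g' := k * g * k⁻¹ with hg'
  have happ : ∀ y, (g' : V6 ≃ₗ[ZMod 2] V6) y =
      (k : V6 ≃ₗ[ZMod 2] V6) ((g : V6 ≃ₗ[ZMod 2] V6) ((k⁻¹ : O phi).1 y)) := fun y => rfl
  have hkinv : ∀ y, (k⁻¹ : O phi).1 ((k : V6 ≃ₗ[ZMod 2] V6) y) = y := fun y => by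
    rw [← mul_app, ← Subgroup.coe_mul, inv_mul_cancel]; rfl
  have hkinv' : ∀ y, (k : V6 ≃ₗ[ZMod 2] V6) ((k⁻¹ : O phi).1 y) = y := fun y => by
    rw [← mul_app, ← Subgroup.coe_mul, mul_inv_cancel]; rfl
  obtain ⟨x, hx⟩ : ∃ x, (g : V6 ≃ₗ[ZMod 2] V6) x - x = v := by
    have hv' : v ∈ I := hvI
    rw [← hrange] at hv'
    obtain ⟨x, hx⟩ := hv'
    exact ⟨x, by simpa using hx⟩
  have hfix : (g' : V6 ≃ₗ[ZMod 2] V6) v0 = v0 := by
    rw [happ, ← hkv, hkinv, mem_fixSpace.mp (hle hvI)]
  have key : ∀ y, polar (⇑phi) v0 y = 0 → ((g' : V6 ≃ₗ[ZMod 2] V6) y).2 = y.2 := by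
    intro y hy
    set y₁ := (k⁻¹ : O phi).1 y with hy₁
    set w := (g : V6 ≃ₗ[ZMod 2] V6) y₁ - y₁ with hwdef
    have hw : w ∈ I := by
      rw [← hrange]; exact ⟨y₁, by simp [hwdef]⟩
    have hvy : polar (⇑phi) v y₁ = 0 := by
      rw [← O.polar_app k, hkv, hy₁, hkinv', hy]
    have hxw : polar (⇑phi) x w = 0 := by
      have h3 := O.polar_app g x ((g : V6 ≃ₗ[ZMod 2] V6) y₁)
      rw [hgg] at h3
      rw [← hx, polar_sub_left, h3] at hvy
      rw [hwdef, polar_sub_right]
      exact hvy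
    have hxv : polar (⇑phi) x v = 0 := by
      have e := O.map_app g x
      rw [show (g : V6 ≃ₗ[ZMod 2] V6) x = x + v from by rw [← hx, add_sub_cancel],
        map_add_polar, hv] at e
      simpa using e
    have hwv : w = 0 ∨ w = v := by
      by_contra hne
      push Not at hne
      have hspan : ∀ i ∈ I, polar (⇑phi) x i = 0 := by
        intro i hi
        have hall : ({0, v, w, v + w} : Set V6) = (I : Set V6) := by
          refine Set.eq_of_subset_of_ncard_le ?_ ?_ (Set.toFinite _)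
          · rintro i (rfl | rfl | rfl | rfl)
            exacts [zero_mem I, hvI, hw, add_mem hvI hw]
          · rw [← Nat.card_coe_set_eq, show Nat.card (I : Set V6) = 4 from hcard]
            rw [Set.ncard_insert_of_notMem, Set.ncard_insert_of_notMem, Set.ncard_pair]
            · intro e; exact hv0 (by simpa using e.symm)
            · simp only [Set.mem_insert_iff, Set.mem_singleton_iff, not_or]
              exact ⟨hne.2.symm, fun e => hne.1 (by simpa using e.symm)⟩
            · simp only [Set.mem_insert_iff, Set.mem_singleton_iff, not_or]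
              exact ⟨hv0.symm, hne.1.symm, fun e => hne.2 (eq_of_add_eq_zero' e.symm).symm⟩
        have hi' : i ∈ ({0, v, w, v + w} : Set V6) := by rw [hall]; exact hi
        rcases hi' with rfl | rfl | rfl | rfl
        · simp [polar]
        · exact hxv
        · exact hxw
        · rw [polar_add_right, hxv, hxw, add_zero]
      have hxfix : x ∈ fixSpace g := by
        rw [← hperpI, mem_perp' phi]
        exact hspan
      rw [mem_fixSpace.mp hxfix, sub_self] at hx
      exact hv0 hx.symm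
    have hgy : (g' : V6 ≃ₗ[ZMod 2] V6) y = y + (k : V6 ≃ₗ[ZMod 2] V6) w := by
      rw [happ, hwdef, map_sub, ← hy₁]
      rw [show (k : V6 ≃ₗ[ZMod 2] V6) y₁ = y from hkinv' y, add_sub_cancel]
    rcases hwv with e | e <;> rw [hgy, e]
    · simp
    · rw [hkv]; simp [v0]
  obtain ⟨u, hu⟩ := eq_E hfix key
  refine ⟨u, fun e => h1 ?_, hu⟩
  rw [e, E_zero, hg', conj_eq_one_iff] at hu
  exact hu

/-- An orbit of length five does not fit in four points. -/
theorem fixed_of_five {X : Type*} {f : X → X} {s : Set X} (hs : s.Finite) (hc : s.ncard ≤ 4)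
    (hf : Set.MapsTo f s s) {u : X} (hu : u ∈ s) (h5 : f^[5] u = u) : f u = u := by
  have hmem : ∀ i, f^[i] u ∈ s := fun i => hf.iterate i hu
  obtain ⟨i, hi, j, hj, hij, e⟩ : ∃ i < 5, ∃ j < 5, i < j ∧ f^[i] u = f^[j] u := by
    by_contra hno
    push Not at hno
    have hinj : Set.InjOn (fun i => f^[i] u) (Finset.range 5 : Set ℕ) := by
      intro a ha b hb e
      simp only [Finset.coe_range, Set.mem_Iio] at ha hb
      rcases lt_trichotomy a b with h | h | h
      · exact absurd e (hno a ha b hb h)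
      · exact h
      · exact absurd e.symm (hno b hb a ha h)
    have := Set.ncard_le_ncard_of_injOn (fun i => f^[i] u) (fun i _ => hmem i) hinj hs
    rw [Set.ncard_coe_finset, Finset.card_range] at this
    omega
  have hper : Function.IsPeriodicPt f (j - i) u := by
    show f^[j - i] u = u
    calc f^[j - i] u = f^[j - i] (f^[5] u) := by rw [h5]
      _ = f^[(5 - i) + j] u := by
        rw [← Function.iterate_add_apply, show j - i + 5 = 5 - i + j by omega]
      _ = f^[5 - i] (f^[i] u) := by rw [Function.iterate_add_apply, e]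
      _ = f^[5] u := by rw [← Function.iterate_add_apply, show 5 - i + i = 5 by omega]
      _ = u := h5
  have h1 := hper.gcd (show Function.IsPeriodicPt f 5 u from h5)
  have hcop : Nat.gcd (j - i) 5 = 1 := by
    obtain h | h | h | h : j - i = 1 ∨ j - i = 2 ∨ j - i = 3 ∨ j - i = 4 := by omega
    all_goals rw [h]; rfl
  rwa [hcop] at h1

theorem pow_app (g : O phi) : ∀ (n : ℕ) (x : V6),
    (g ^ n : O phi).1 x = ((g : V6 ≃ₗ[ZMod 2] V6) : V6 → V6)^[n] x
  | 0, x => rfl
  | n + 1, x => by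
    rw [pow_succ, Subgroup.coe_mul, mul_app, pow_app g n, Function.iterate_succ_apply]

/-- An element of order five fixes no pair of orthogonal vectors containing a singular one. -/
theorem five_fix {g : O phi} (h5 : g ^ 5 = 1) (h1 : g ≠ 1) {v w : V6} (hv : v ≠ 0)
    (hphi : phi v = 0) (hw : w ≠ 0) (hwv : w ≠ v) (hperp : polar (⇑phi) v w = 0)
    (hgv : (g : V6 ≃ₗ[ZMod 2] V6) v = v) (hgw : (g : V6 ≃ₗ[ZMod 2] V6) w = w) : False := by
  have : Fact (Nat.Prime 5) := ⟨by norm_num⟩
  have hord : orderOf g = 5 := orderOf_eq_prime h5 h1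
  have hp : IsPGroup 5 (Subgroup.zpowers g) :=
    IsPGroup.of_card (n := 1) (by rw [Nat.card_zpowers, hord, pow_one])
  letI : MulAction (Subgroup.zpowers g) V6 :=
    { smul := fun k x => ((k : O phi) : V6 ≃ₗ[ZMod 2] V6) x
      one_smul := fun x => rfl
      mul_smul := fun k l x => rfl }
  have hm := hp.card_modEq_card_fixedPoints V6
  have hset : MulAction.fixedPoints (Subgroup.zpowers g) V6 = (fixSpace g : Set V6) := by
    ext x
    refine ⟨fun hx => mem_fixSpace.mpr (hx ⟨g, Subgroup.mem_zpowers g⟩), fun hx k => ?_⟩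
    show ((k : O phi) : V6 ≃ₗ[ZMod 2] V6) x = x
    obtain ⟨n, hn⟩ := (isOfFinOrder_iff_pow_eq_one.mpr ⟨5, by norm_num, h5⟩).mem_powers_iff_mem_zpowers.mpr k.2
    rw [← hn]
    show (g ^ n : O phi).1 x = x
    rw [pow_app]
    exact Function.iterate_fixed (mem_fixSpace.mp hx) n
  rw [hset, SetLike.coe_sort_coe, natCard_eq_pow_finrank (K := ZMod 2) (V := fixSpace g),
    show Nat.card V6 = 64 by simp, Nat.card_zmod] at hm
  have hle : finrank (ZMod 2) (fixSpace g) ≤ 6 := finrank_V6 ▸ Submodule.finrank_le _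
  have hne : finrank (ZMod 2) (fixSpace g) ≠ 6 := fun e => h1 (O.ext_app fun x => by
    have ht : fixSpace g = ⊤ := Submodule.eq_top_of_finrank_eq (by rw [e, finrank_V6])
    have hx : x ∈ fixSpace g := by rw [ht]; trivial
    exact mem_fixSpace.mp hx)
  have h2 : finrank (ZMod 2) (fixSpace g) = 2 := by
    generalize finrank (ZMod 2) (fixSpace g) = n at hm hle hne
    unfold Nat.ModEq at hm
    interval_cases n <;> omega
  have hall : ({0, v, w, v + w} : Set V6) = (fixSpace g : Set V6) := by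
    refine Set.eq_of_subset_of_ncard_le ?_ ?_ (Set.toFinite _)
    · rintro i (rfl | rfl | rfl | rfl)
      exacts [zero_mem _, mem_fixSpace.mpr hgv, mem_fixSpace.mpr hgw,
        add_mem (mem_fixSpace.mpr hgv) (mem_fixSpace.mpr hgw)]
    · rw [← Nat.card_coe_set_eq, SetLike.coe_sort_coe,
        natCard_eq_pow_finrank (K := ZMod 2) (V := fixSpace g), h2, Nat.card_zmod]
      rw [Set.ncard_insert_of_notMem, Set.ncard_insert_of_notMem, Set.ncard_pair]
      · norm_num
      · intro e; exact hv (by simpa using e.symm)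
      · simp only [Set.mem_insert_iff, Set.mem_singleton_iff, not_or]
        exact ⟨hwv.symm, fun e => hw (by simpa using e.symm)⟩
      · simp only [Set.mem_insert_iff, Set.mem_singleton_iff, not_or]
        exact ⟨hv.symm, hw.symm, fun e => hwv (eq_of_add_eq_zero' e.symm).symm⟩
  have hvv : polar (⇑phi) v v = 0 := by rw [polar_self', hphi, mul_zero]
  refine hv (phi_nondeg v fun x => ?_)
  set f := ((g : V6 ≃ₗ[ZMod 2] V6) : V6 → V6)
  have hsum : x + f x + f^[2] x + f^[3] x + f^[4] x ∈ fixSpace g := by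
    rw [mem_fixSpace]
    have h5' : f^[5] x = x := by rw [← pow_app, h5]; rfl
    simp only [map_add]
    show f x + f (f x) + f (f^[2] x) + f (f^[3] x) + f (f^[4] x) = _
    rw [show f (f^[2] x) = f^[3] x from (Function.iterate_succ_apply' f 2 x).symm,
      show f (f^[3] x) = f^[4] x from (Function.iterate_succ_apply' f 3 x).symm,
      show f (f^[4] x) = f^[5] x from (Function.iterate_succ_apply' f 4 x).symm, h5',
      show f (f x) = f^[2] x from rfl]
    abel
  have hsame : ∀ n, polar (⇑phi) v (f^[n] x) = polar (⇑phi) v x := by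
    intro n
    induction n with
    | zero => rfl
    | succ n ih =>
      rw [Function.iterate_succ_apply', ← ih]
      conv_lhs => rw [← hgv]
      exact O.polar_app g _ _
  have h0 : polar (⇑phi) v (x + f x + f^[2] x + f^[3] x + f^[4] x) = 0 := by
    have hmem : x + f x + f^[2] x + f^[3] x + f^[4] x ∈ ({0, v, w, v + w} : Set V6) := by
      rw [hall]; exact hsum
    rcases hmem with e | e | e | e <;> rw [e]
    · simp [polar]
    · exact hvv
    · exact hperp
    · rw [polar_add_right, hvv, hperp, add_zero]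
  rw [polar_add_right, polar_add_right, polar_add_right, polar_add_right, hsame 2, hsame 3,
    hsame 4, show f x = f^[1] x from rfl, hsame 1] at h0
  revert h0
  generalize polar (⇑phi) v x = a
  revert a; decide

/-- An element of order five centralises no involution of the commutator subgroup. -/
theorem five_not_commute {g i : O phi} (h5 : g ^ 5 = 1) (h1 : g ≠ 1)
    (hi : i ∈ commutator (O phi)) (hi2 : i * i = 1) (hi1 : i ≠ 1) (hc : g * i = i * g) :
    False := by
  obtain ⟨k, -, u, hu, hk⟩ := exists_conj_E hi hi2 hi1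
  set g' := k * g * k⁻¹ with hg'
  have hc' : g' * E u = E u * g' := by
    rw [← hk, hg', conj_mul, conj_mul, hc]
  have h5' : g' ^ 5 = 1 := by rw [hg', conj_pow, h5, mul_one, mul_inv_cancel]
  have h1' : g' ≠ 1 := fun e => h1 (by rwa [hg', conj_eq_one_iff] at e)
  set S : Set V6 := {v0, emb u, v0 + emb u}
  have hN : ∀ y : V6, (E u : V6 ≃ₗ[ZMod 2] V6) y + y =
      (fU u y.2 + qU u * y.1.2) • v0 + y.1.2 • emb u := by
    intro y
    rw [E_app]
    obtain ⟨⟨c, d⟩, w⟩ := y
    simp only [v0, emb, Prod.smul_mk, Prod.mk_add_mk, smul_eq_mul, mul_one, mul_zero, add_zero,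
      zero_add, smul_zero, CharTwo.add_self_eq_zero]
    refine Prod.ext (Prod.ext ?_ rfl) ?_
    · show c + fU u w + qU u * d + c = fU u w + qU u * d
      calc c + fU u w + qU u * d + c = (fU u w + qU u * d) + (c + c) := by ring
        _ = _ := by rw [CharTwo.add_self_eq_zero, add_zero]
    · show w + d • u + w = d • u
      rw [add_comm w, add_assoc, show w + w = 0 from congrArg Prod.snd (add_self' ((0, 0), w)),
        add_zero]
  have himg : ∀ y, ∀ p, p = (E u : V6 ≃ₗ[ZMod 2] V6) y + y → p ≠ 0 → p ∈ S := by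
    intro y p hp hp0
    rw [hN] at hp
    rcases two_cases' (fU u y.2 + qU u * y.1.2) with e | e <;>
      rcases two_cases' y.1.2 with e' | e' <;> rw [e, e'] at hp <;> simp at hp <;>
      simp [S, hp] at hp0 ⊢
  have hgS : ∀ y, (g' : V6 ≃ₗ[ZMod 2] V6) ((E u : V6 ≃ₗ[ZMod 2] V6) y + y) =
      (E u : V6 ≃ₗ[ZMod 2] V6) ((g' : V6 ≃ₗ[ZMod 2] V6) y) + (g' : V6 ≃ₗ[ZMod 2] V6) y := by
    intro y
    rw [map_add, ← mul_app, ← Subgroup.coe_mul, hc', Subgroup.coe_mul, mul_app]
  obtain ⟨w, hw⟩ : ∃ w, fU u w = 1 := by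
    by_contra hno
    push Not at hno
    refine hu (fU_inj u 0 fun x => ?_)
    rcases two_cases' (fU u x) with e | e
    · rw [e]; generalize x = w; revert w; decide
    · exact absurd e (hno x)
  have hSr : ∀ p ∈ S, ∃ y, (E u : V6 ≃ₗ[ZMod 2] V6) y + y = p := by
    have hA : (E u : V6 ≃ₗ[ZMod 2] V6) (emb w) + emb w = v0 := by
      rw [hN]; simp [emb, hw]
    rintro p (rfl | rfl | rfl)
    · exact ⟨_, hA⟩
    · rcases two_cases' (qU u) with e | e
      · refine ⟨((0, 1), 0), ?_⟩
        rw [hN]; simp [e, show fU u 0 = 0 by clear hw hu hc' hN himg hgS hA e S hk; revert u; decide]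
      · refine ⟨((0, 1), w), ?_⟩
        rw [hN]; simp [e, hw, show (1 + 1 : ZMod 2) = 0 from rfl]
    · rcases two_cases' (qU u) with e | e
      · refine ⟨((0, 1), w), ?_⟩
        rw [hN]; simp [e, hw, show (1 + 1 : ZMod 2) = 0 from rfl]
      · refine ⟨((0, 1), 0), ?_⟩
        rw [hN]; simp [e, show fU u 0 = 0 by clear hw hu hc' hN himg hgS hA e S hk; revert u; decide]
  have he0 : emb u ≠ 0 := fun e => hu (congrArg Prod.snd e)
  have hev : emb u ≠ v0 := fun e => hu (congrArg Prod.snd e)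
  have hS0 : ∀ p ∈ S, p ≠ 0 := by
    rintro p (rfl | rfl | rfl)
    · exact v0_ne
    · exact he0
    · exact fun e => hev (eq_of_add_eq_zero' e).symm
  have hmaps : Set.MapsTo ((g' : V6 ≃ₗ[ZMod 2] V6) : V6 → V6) S S := fun p hp => by
    obtain ⟨y, rfl⟩ := hSr p hp
    exact himg _ _ (hgS y) (fun e => hS0 _ hp ((g' : V6 ≃ₗ[ZMod 2] V6).map_eq_zero_iff.mp e))
  have hcard : S.ncard ≤ 4 := by
    refine (Set.ncard_insert_le _ _).trans ?_
    have := Set.ncard_insert_le (emb u) ({v0 + emb u} : Set V6)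
    rw [Set.ncard_singleton] at this
    omega
  have hfix : ∀ p ∈ S, (g' : V6 ≃ₗ[ZMod 2] V6) p = p := fun p hp =>
    fixed_of_five (Set.toFinite S) hcard hmaps hp (by rw [← pow_app, h5']; rfl)
  exact five_fix h5' h1' v0_ne phi_v0 he0 hev (by rw [polar_v0]; rfl)
    (hfix v0 (Or.inl rfl)) (hfix (emb u) (Or.inr (Or.inl rfl)))

end Cfsg.Agent.H73.Suz
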