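import Cfsg.Agent.H73.Suz.Classes

/-!
Two classes of involutions.
-/

set_option autoImplicit false
set_option linter.unusedSectionVars false
set_option linter.unusedVariables false
set_option synthInstance.maxSize 4000
set_option synthInstance.maxHeartbeats 400000
set_option maxRecDepth 20000

namespace Cfsg.Agent.H73.Suz

open QuadraticMap Cfsg.Agent.Orthogonal Cfsg.Agent.H92.ExtraForm

variable {G : Type*} [Group G] [Finite G] {z : G} {Q : Subgroup G}

theorem qU_a0 : qU a0 = 1 := by decide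
theorem qU_u0 : qU u0 = 1 := by decide
theorem fU_a0_u0 : fU a0 u0 = 1 := by decide
theorem qU_c0 : qU c0 = 1 := by decide
theorem fU_c0 : fU c0 a0 = 0 ∧ fU c0 u0 = 0 := by decide
theorem u0_ne : u0 ≠ 0 := by decide

namespace Pair

variable {h : Setup z Q} {s w : G} (P : Pair h s w)
include P

/-- The symmetry of the relation "lies in the core". -/
theorem mem_of_inv_mem {g y : G} (hy : g * z * g⁻¹ = y) (hyz : y * z = z * y)
    (hz' : g⁻¹ * z * g ∈ Q) : y ∈ Q := by
  by_cases he : g⁻¹ * z * g = z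
  · have : y = z := by
      rw [← hy, mul_inv_eq_iff_eq_mul]
      calc g * z = g * (g⁻¹ * z * g) := by rw [he]
        _ = z * g := by group
    exact this ▸ h.hzQ
  have h2 : g⁻¹ * z * g * (g⁻¹ * z * g) = 1 := by
    calc g⁻¹ * z * g * (g⁻¹ * z * g) = g⁻¹ * (z * z) * g := by group
      _ = 1 := by rw [h.zz, mul_one, inv_mul_cancel]
  have h1 : g⁻¹ * z * g ≠ 1 := fun e => h.z_ne (by
    calc z = g * (g⁻¹ * z * g) * g⁻¹ := by group
      _ = 1 := by rw [e, mul_one, mul_inv_cancel])
  obtain ⟨c, hc, hcx⟩ := h.exists_conj_s P.hs P.hπ hz' h2 h1 he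
  set m := g * c⁻¹ with hm
  have hmz : m * z * m⁻¹ = y := by
    calc m * z * m⁻¹ = g * (c⁻¹ * z * c) * g⁻¹ := by rw [hm]; group
      _ = y := by rw [h.inv_comm hc, mul_assoc z, inv_mul_cancel, mul_one, hy]
  have hms : m * s * m⁻¹ = z := by rw [← hcx, hm]; group
  have hmw : m * w * z = z * (m * w) := by
    calc m * w * z = m * (w * z * w⁻¹) * w := by group
      _ = (m * s * m⁻¹) * (m * w) := by rw [P.hw1]; group
      _ = z * (m * w) := by rw [hms]
  have : m * w * s * (m * w)⁻¹ = y := by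
    rw [show m * w * s * (m * w)⁻¹ = m * (w * s * w⁻¹) * m⁻¹ by group, P.hw2, hmz]
  rw [← this]
  exact h.norm _ hmw s P.hs

theorem two_classes : ∃ a b : G, orderOf a = 2 ∧ orderOf b = 2 ∧ ¬ IsConj a b ∧
    ∀ x : G, orderOf x = 2 → IsConj x a ∨ IsConj x b := by
  obtain ⟨q0, hq0, hq0π⟩ := P.exists_A a0
  obtain ⟨b0, hb0, hb0u⟩ := P.exists_B u0
  have hq0a : alpha h q0 = a0 := by rw [alpha, hq0π]; rfl
  set x0 := q0 * b0 with hx0
  have hx0z : x0 * z = z * x0 := h.mul_comm' (P.zc hq0) hb0.2
  have hx0s : x0 * s = s * x0 :=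
    ((show Commute q0 s from hq0.2).mul_left (show Commute b0 s from P.sB hb0)).eq
  have hρ0 : h.ρ x0 = E u0 := by
    rw [hx0, h.ρ_mul _ _ (P.zc hq0) hb0.2, h.ρ_Q hq0.1, one_mul, P.rho_B hb0, hb0u]
  have hx0Q : x0 ∉ Q := fun e => u0_ne (E_injective (by rw [← hρ0, h.ρ_Q e, E_zero]))
  have hx02 : x0 * x0 = 1 := by
    rw [hx0, P.sq_AB hq0 hb0, hq0a, hb0u, qU_a0, qU_u0, fU_a0_u0]
    simp [tt, zp, show (1 + 1 : ZMod 2) = 0 from rfl]
  have hord : ∀ {y : G}, orderOf y = 2 → y * y = 1 ∧ y ≠ 1 := fun {y} hy =>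
    ⟨by have := pow_orderOf_eq_one y; rwa [hy, pow_two] at this,
      fun e => by rw [e, orderOf_one] at hy; omega⟩
  have hno : ¬ IsConj z x0 := by
    rw [isConj_iff]
    rintro ⟨g, hg⟩
    set z' := g⁻¹ * z * g with hz'
    have hzg : g * z' * g⁻¹ = z := by rw [hz']; group
    have hz'Q : z' ∉ Q := fun e => hx0Q (P.mem_of_inv_mem hg hx0z e)
    have hz'z : z' * z = z * z' := by
      calc z' * z = g⁻¹ * (z * (g * z * g⁻¹)) * g := by rw [hz']; group
        _ = g⁻¹ * ((g * z * g⁻¹) * z) * g := by rw [hg, hx0z]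
        _ = z * z' := by rw [hz']; group
    have hz'2 : z' * z' = 1 := by
      calc z' * z' = g⁻¹ * (z * z) * g := by rw [hz']; group
        _ = 1 := by rw [h.zz, mul_one, inv_mul_cancel]
    obtain ⟨c, q, b, hc, hqA, hbB, hθ, hqb⟩ := P.conj_into_W hz'z hz'2 hz'Q
    have hqb2 : q * b * (q * b) = 1 := by
      rw [← hqb, conj_mul, hz'2, mul_one, mul_inv_cancel]
    rcases P.W_cases hqA hbB hθ hqb2 with ⟨v, hvQ, hvne, hvinv, hvx⟩ | ⟨h1, h2, h3⟩
    · -- `z'` lies in the core of a conjugate inside `Q`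
      set k := g * c⁻¹ with hk
      have hkz : k * z * k⁻¹ = x0 := by
        calc k * z * k⁻¹ = g * (c⁻¹ * z * c) * g⁻¹ := by rw [hk]; group
          _ = x0 := by rw [h.inv_comm hc, mul_assoc z, inv_mul_cancel, mul_one, hg]
      have hkx : k * (q * b) * k⁻¹ = z := by rw [← hqb, ← hzg, hk]; group
      set e := v * z * v⁻¹ with he
      have hex : e * (q * b) = q * b * e := by
        have e1 := h.le _ hvx
        calc e * (q * b) = v * (z * (v⁻¹ * (q * b) * v)) * v⁻¹ := by rw [he]; group
          _ = q * b * e := by rw [← e1, he]; group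
      set w' := k * e * k⁻¹ with hw'
      have hw'z : w' * z = z * w' := by
        rw [← hkx, hw']
        calc k * e * k⁻¹ * (k * (q * b) * k⁻¹) = k * (e * (q * b)) * k⁻¹ := by group
          _ = _ := by rw [hex]; group
      have hkv : k * v * z * (k * v)⁻¹ = w' := by rw [hw', he]; group
      have hkvinv : (k * v)⁻¹ * z * (k * v) ∈ Q := by
        rw [← hkx]
        convert hvx using 1
        group
      have hw'Q : w' ∈ Q := P.mem_of_inv_mem hkv hw'z hkvinv
      have hee : e * e = 1 := by rw [he, conj_mul, h.zz, mul_one, mul_inv_cancel]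
      have he1 : e ≠ 1 := fun e' => h.z_ne (conj_eq_one_iff.mp e')
      have hw'ne : w' ≠ z := fun e' => by
        rw [← hkx, hw', mul_left_inj, mul_right_inj] at e'
        have hqbQ : q * b ∈ Q := e' ▸ hvQ
        exact hθ (by
          have hbQ : b ∈ Q := by simpa using mul_mem (inv_mem hqA.1) hqbQ
          exact (P.eq_of_mem_inter hbQ hbB rfl).2)
      obtain ⟨c1, hc1, hc1w⟩ := h.exists_conj_s P.hs P.hπ hw'Q
        (by rw [hw', conj_mul, hee, mul_one, mul_inv_cancel])
        (fun e' => he1 (conj_eq_one_iff.mp e')) hw'ne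
      set x2 := c1 * x0 * c1⁻¹ with hx2
      have hx2z : x2 * z = z * x2 := h.conj_comm hc1 hx0z
      set m := c1 * (k * v) with hm
      have hmC : w⁻¹ * m * z = z * (w⁻¹ * m) := by
        have hms : m * z * m⁻¹ = s := by rw [← hc1w, ← hkv, hm]; group
        calc w⁻¹ * m * z = w⁻¹ * (m * z * m⁻¹) * m := by group
          _ = (w⁻¹ * s * w) * (w⁻¹ * m) := by rw [hms]; group
          _ = z * (w⁻¹ * m) := by rw [P.w_s]
      have hx2B : InB z Q w x2 := by
        refine ⟨?_, hx2z⟩
        rw [show w⁻¹ * x2 * w = (w⁻¹ * m) * (v⁻¹ * z * v) * (w⁻¹ * m)⁻¹ by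
          rw [hx2, ← hkz, hm]; group]
        exact h.norm _ hmC _ hvinv
      have hx22 : x2 * x2 = 1 := by rw [hx2, conj_mul, hx02, mul_one, mul_inv_cancel]
      have hσ : qU (theta h x2) = 0 := by
        have e2 : tt z s 0 (qU (theta h x2)) = tt z s 0 0 := by
          rw [← P.sq_B hx2B, hx22]; simp [tt, zp]
        exact (P.tt_inj e2).2
      have hsing : SingularRange h x0 := by
        refine singularRange_conj h hc1 hx0z fun y => ?_
        rw [← hx2, P.rho_B hx2B, E_app]
        obtain ⟨⟨yc, yd⟩, yu⟩ := y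
        rw [phi_apply]
        rcases two_cases' yd with rfl | rfl
        · simp only [Prod.mk_add_mk, add_zero, mul_zero, zero_smul, zero_add,
            show yu + yu = 0 from congrArg Prod.snd (add_self' ((0, 0), yu))]
          decide
        · simp only [Prod.mk_add_mk, one_smul, show (1 + 1 : ZMod 2) = 0 from rfl, mul_zero,
            zero_add]
          rw [add_comm yu, add_assoc,
            show yu + yu = 0 from congrArg Prod.snd (add_self' ((0, 0), yu)), add_zero, hσ]
      have := hsing f0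
      rw [hρ0, E_f0, phi_apply] at this
      revert this
      decide
    · -- `z'` is of the second type: an element interchanging `z` and `x0`
      obtain ⟨c2, hc2, hc2x⟩ := P.conj_x0 hqA hbB hq0 hb0 hq0a hb0u h1 h2 h3
      set k := g * (c2 * c)⁻¹ with hk
      have hcc : c2 * c * z = z * (c2 * c) := h.mul_comm' hc2 hc
      have hkz : k * z * k⁻¹ = x0 := by
        calc k * z * k⁻¹ = g * ((c2 * c)⁻¹ * z * (c2 * c)) * g⁻¹ := by rw [hk]; group
          _ = x0 := by rw [h.inv_comm hcc, mul_assoc z, inv_mul_cancel, mul_one, hg]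
      have hkx : k * x0 * k⁻¹ = z := by
        rw [hx0, ← hc2x, ← hqb, ← hzg, hk]; group
      obtain ⟨q1, hq1, hq1π⟩ := P.exists_A c0
      have hq1a : alpha h q1 = c0 := by rw [alpha, hq1π]; rfl
      have hq1q1 : q1 * q1 = z := by
        rw [P.sq_A hq1, hq1a, qU_c0]; simp [tt, zp]
      have hq1x : q1 * x0 = x0 * q1 := by
        have e1 := P.comm_AA hq0 hq1
        rw [hq0a, hq1a, fU_comm, fU_c0.1] at e1
        have e2 := P.comm_AB hq1 hb0
        rw [hq1a, hb0u, fU_c0.2] at e2
        have e1' : Commute q1 q0 := by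
          show q1 * q0 = q0 * q1
          rw [e1]; simp [tt, zp]
        have e2' : Commute q1 b0 := by
          show q1 * b0 = b0 * q1
          calc q1 * b0 = (q1 * b0 * q1⁻¹ * b0⁻¹) * (b0 * q1) := by group
            _ = b0 * q1 := by rw [e2]; simp [tt, zp]
        exact (e1'.mul_right e2').eq
      set y := k * q1 * k⁻¹ with hy
      have hyy : y * y = x0 := by rw [hy, conj_mul, hq1q1, hkz]
      have hyz : y * z = z * y := by
        rw [hy, ← hkx]
        calc k * q1 * k⁻¹ * (k * x0 * k⁻¹) = k * (q1 * x0) * k⁻¹ := by group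
          _ = _ := by rw [hq1x]; group
      have hyx : y * x0 = x0 * y := by rw [← hyy]; group
      have hcomm : h.ρ y * E u0 = E u0 * h.ρ y := by
        rw [← hρ0, ← h.ρ_mul _ _ hyz hx0z, ← h.ρ_mul _ _ hx0z hyz, hyx]
      have hyv : (h.ρ y : V6 ≃ₗ[ZMod 2] V6) v0 = v0 := by
        obtain ⟨e, he⟩ : ∃ e, fU u0 e = 1 := ⟨a0, by decide⟩
        have hA : (E u0 : V6 ≃ₗ[ZMod 2] V6) (emb e) + emb e = v0 := by
          rw [E_app]
          simp only [emb, v0, Prod.mk_add_mk, zero_smul, add_zero, mul_zero, zero_add, he,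
            show e + e = 0 from congrArg Prod.snd (add_self' ((0, 0), e))]
        have h3' := congrArg (h.ρ y : V6 ≃ₗ[ZMod 2] V6) hA
        rw [map_add, ← mul_app, ← Subgroup.coe_mul, hcomm, Subgroup.coe_mul, mul_app] at h3'
        generalize (h.ρ y : V6 ≃ₗ[ZMod 2] V6) (emb e) = r at h3'
        have hne : (h.ρ y : V6 ≃ₗ[ZMod 2] V6) v0 ≠ 0 :=
          fun e' => v0_ne ((LinearEquiv.map_eq_zero_iff _).mp e')
        have hphi : phi ((h.ρ y : V6 ≃ₗ[ZMod 2] V6) v0) = 0 := by rw [O.map_app, phi_v0]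
        rw [← h3', E_app] at hne hphi ⊢
        obtain ⟨⟨rc, rd⟩, ru⟩ := r
        rw [phi_apply] at hphi
        clear h3' hA he hcomm
        revert hne hphi
        revert rc rd ru
        decide
      have hπy : h.π s = h.π (y * s * y⁻¹) := by rw [h.ρ_π y hyz s P.hs, P.hπ, hyv]
      rcases h.π_eq P.hs (h.norm y hyz s P.hs) hπy with hys | hys
      · have hys' : y * s = s * y := mul_inv_eq_iff_eq_mul.mp hys
        have hl : ∀ a, alpha h q0 = a → res (h.ρ y) a = a := fun a ha => ha ▸ by
          have hA := P.InA_conj hyz hys' hq0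
          have hB := P.InB_conj hyz hys' hb0
          have heq : y * q0 * y⁻¹ * (y * b0 * y⁻¹) = q0 * b0 := by
            rw [conj_mul, ← hx0, hyx, mul_inv_cancel_right]
          have e1 : q0⁻¹ * (y * q0 * y⁻¹) = b0 * (y * b0 * y⁻¹)⁻¹ := by
            rw [eq_mul_inv_iff_mul_eq, mul_assoc, heq, inv_mul_cancel_left]
          obtain ⟨f1, -⟩ := P.eq_of_mem_inter (P.InA_mul (P.InA_inv hq0) hA).1
            (P.InB_mul hb0 (P.InB_inv hB)) e1
          rw [P.alpha_mul (inv_mem hq0.1) hA.1, P.alpha_inv hq0.1, P.alpha_conj hyz hys' hq0] at f1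
          have : ∀ a b : U4, a + b = 0 → b = a := fun a b e =>
            (congrArg Prod.snd (eq_of_add_eq_zero' (x := ((0, 0), a)) (y := ((0, 0), b))
              (Prod.ext (by simp) e))).symm
          exact this _ _ f1
        have hla := hl a0 hq0a
        have hlu : res (h.ρ y) u0 = u0 := by
          have hB := P.InB_conj hyz hys' hb0
          have hA := P.InA_conj hyz hys' hq0
          have heq : y * q0 * y⁻¹ * (y * b0 * y⁻¹) = q0 * b0 := by
            rw [conj_mul, ← hx0, hyx, mul_inv_cancel_right]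
          have e1 : q0⁻¹ * (y * q0 * y⁻¹) = b0 * (y * b0 * y⁻¹)⁻¹ := by
            rw [eq_mul_inv_iff_mul_eq, mul_assoc, heq, inv_mul_cancel_left]
          have hB' := P.InB_mul hb0 (P.InB_inv hB)
          obtain ⟨-, f2⟩ := P.eq_of_mem_inter (P.InA_mul (P.InA_inv hq0) hA).1 hB' e1
          have f3 := P.theta_mul hB' hB
          rw [f2, zero_add, inv_mul_cancel_right, P.theta_conj hyz hys' hb0, hb0u] at f3
          exact f3.symm
        -- the induced map on `U4`
        set l := h.ρ y with hldef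
        have hperp : ∀ a : U4, polar (⇑phi) v0 (emb a) = 0 := fun a => by rw [polar_v0]; rfl
        have hlp : ∀ a : U4, polar (⇑phi) v0 ((l : V6 ≃ₗ[ZMod 2] V6) (emb a)) = 0 := fun a => by
          rw [polar_fixed hyv, hperp]
        have hlf : ∀ a b : U4, fU (res l a) (res l b) = fU a b := fun a b => by
          have := O.polar_app l (emb a) (emb b)
          rw [polar_of_perp (hlp a) (hlp b), polar_emb, emb_snd] at this
          exact this
        have hlq : ∀ a : U4, qU (res l a) = qU a := fun a => by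
          have := O.map_app l (emb a)
          rwa [phi_of_perp (hlp a), phi_emb] at this
        have hladd : ∀ a b : U4, res l (a + b) = res l a + res l b := fun a b => by
          rw [res, show emb (a + b) = emb a + emb b from by simp [emb], map_add]; rfl
        have hlzero : res l 0 = 0 := by
          rw [res, show emb 0 = (0 : V6) from rfl, map_zero]; rfl
        have hite : ∀ (t : ZMod 2) (v : U4), res l (if t = 1 then v else 0) =
            if t = 1 then res l v else 0 := fun t v => by split_ifs <;> simp [hlzero]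
        have hexp : ∀ a : U4, res l a = (if a.1 = 1 then res l (1, 0, 0, 0) else 0) +
            (if a.2.1 = 1 then res l (0, 1, 0, 0) else 0) +
            (if a.2.2.1 = 1 then a0 else 0) + (if a.2.2.2 = 1 then u0 else 0) := fun a => by
          conv_lhs => rw [basis_expand a]
          rw [hladd, hladd, hladd, hite, hite, hite, hite]
          conv_rhs => rw [← hla, ← hlu]
          rfl
        rcases stab_pair (res l (1, 0, 0, 0)) (res l (0, 1, 0, 0)) (by rw [hlq]; decide) (by rw [hlq]; decide) (by rw [hlf]; decide)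
          (by rw [← hla, hlf]; decide) (by rw [← hlu, hlf]; decide) (by rw [← hla, hlf]; decide)
          (by rw [← hlu, hlf]; decide) with ⟨p1, p2⟩ | ⟨p1, p2⟩
        · have hid : ∀ a, res l a = a := fun a => by
            rw [hexp, p1, p2]
            conv_rhs => rw [basis_expand a]
            rfl
          obtain ⟨u, hu⟩ := eq_E hyv fun p hp => by rw [P.res_spec hyz hys' hp, hid]
          obtain ⟨b, hb, hbu⟩ := P.exists_B u
          set q2 := y * b⁻¹ with hq2
          have hq2Q : q2 ∈ Q := (h.ρ_ker _ (h.mul_comm' hyz (h.inv_comm hb.2))).mp (by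
            rw [h.ρ_mul _ _ hyz (h.inv_comm hb.2), h.ρ_inv hb.2, P.rho_B hb, hbu, ← hldef, hu,
              mul_inv_cancel])
          have hq2A : InA Q s q2 := ⟨hq2Q,
            ((show Commute y s from hys').mul_left (show Commute b s from P.sB hb).inv_left).eq⟩
          apply hx0Q
          rw [← hyy, show y = q2 * b by rw [hq2, inv_mul_cancel_right], P.sq_AB hq2A hb]
          exact P.tt_Q _ _
        · have hid : ∀ a, res l a = tU c0 a := fun a => by
            rw [hexp, p1, p2]
            revert a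
            decide
          have hphic : phi (emb c0) ≠ 0 := by rw [phi_emb, qU_c0]; exact one_ne_zero
          set k' := rO phi (emb c0) * l with hk'
          have happ : ∀ p, (k' : V6 ≃ₗ[ZMod 2] V6) p =
              (((l : V6 ≃ₗ[ZMod 2] V6) p).1, tU c0 ((l : V6 ≃ₗ[ZMod 2] V6) p).2) := fun p => by
            rw [hk', Subgroup.coe_mul, mul_app, rO_emb_app qU_c0]
          obtain ⟨u, hu⟩ := eq_E (g := k') (by rw [happ, hyv]; decide) fun p hp => by
            rw [happ, P.res_spec hyz hys' hp, hid, tU_tU]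
          apply rO_not_mem_K hphic
          rw [show rO phi (emb c0) = k' * l⁻¹ by rw [hk', mul_inv_cancel_right], hu]
          exact mul_mem (E_mem_K u) (inv_mem (h.ρ_mem y hyz))
      · -- `[y, s] = z` would put `x0` in `Q`
        set e2 := k⁻¹ * s * k with he2
        have he2z : e2 * z = z * e2 := by
          calc e2 * z = k⁻¹ * (s * (k * z * k⁻¹)) * k := by rw [he2]; group
            _ = k⁻¹ * ((k * z * k⁻¹) * s) * k := by rw [hkz, hx0s]
            _ = z * e2 := by rw [he2]; group
        have hkey : q1 * (e2 * q1⁻¹ * e2⁻¹) = x0 := by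
          calc q1 * (e2 * q1⁻¹ * e2⁻¹) = k⁻¹ * (y * s * y⁻¹ * s⁻¹) * k := by rw [hy, he2]; group
            _ = k⁻¹ * (k * x0 * k⁻¹) * k := by
              rw [hys, hkx, P.sz, mul_inv_cancel_right]
            _ = x0 := by group
        exact hx0Q (hkey ▸ mul_mem hq1.1 (h.norm e2 he2z _ (inv_mem hq1.1)))
  refine ⟨z, x0, h.hzo, ?_, hno, fun x hx => ?_⟩
  · exact orderOf_eq_prime (by rw [pow_two]; exact hx02) (fun e => hx0Q (e ▸ one_mem Q))
  obtain ⟨hxx, hx1⟩ := hord hx
  obtain ⟨g, hg⟩ := h.exists_conj_cent hxx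
  set x' := g * x * g⁻¹ with hx'
  have hxconj : IsConj x x' := isConj_iff.mpr ⟨g, rfl⟩
  have hx'x' : x' * x' = 1 := by rw [hx', conj_mul, hxx, mul_one, mul_inv_cancel]
  have hx'1 : x' ≠ 1 := fun e => hx1 (conj_eq_one_iff.mp e)
  by_cases hQx : x' ∈ Q
  · exact Or.inl (hxconj.trans (P.conj_Q hQx hx'x' hx'1))
  obtain ⟨c, q, b, hc, hqA, hbB, hθ, hqb⟩ := P.conj_into_W hg hx'x' hQx
  have hqb2 : q * b * (q * b) = 1 := by rw [← hqb, conj_mul, hx'x', mul_one, mul_inv_cancel]
  have hconj2 : IsConj x (q * b) := hxconj.trans (isConj_iff.mpr ⟨c, hqb⟩)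
  rcases P.W_cases hqA hbB hθ hqb2 with ⟨v, hvQ, hvne, hvinv, hvx⟩ | ⟨h1, h2, h3⟩
  · left
    refine hconj2.trans ((isConj_iff.mpr ⟨v⁻¹, by rw [inv_inv]⟩).trans
      (P.conj_Q hvx ?_ fun e => ?_))
    · calc v⁻¹ * (q * b) * v * (v⁻¹ * (q * b) * v) = v⁻¹ * (q * b * (q * b)) * v := by group
        _ = 1 := by rw [hqb2, mul_one, inv_mul_cancel]
    · have : q * b = 1 := by
        calc q * b = v * (v⁻¹ * (q * b) * v) * v⁻¹ := by group
          _ = 1 := by rw [e, mul_one, mul_inv_cancel]
      exact hx'1 (conj_eq_one_iff.mp (hqb.trans this))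
  · right
    obtain ⟨c2, -, hc2x⟩ := P.conj_x0 hqA hbB hq0 hb0 hq0a hb0u h1 h2 h3
    exact hconj2.trans (isConj_iff.mpr ⟨c2, hc2x⟩)

end Pair

end Cfsg.Agent.H73.Suz
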