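import Cfsg.Agent.H73.Suz.Space

/-!
Finite facts on the four-dimensional elliptic space over two elements.
-/

set_option autoImplicit false
set_option synthInstance.maxSize 4000
set_option synthInstance.maxHeartbeats 400000
set_option maxRecDepth 20000

namespace Cfsg.Agent.H73.Suz

/-- Reflection on `U4`. -/
def tU (a x : U4) : U4 := x + fU a x • a

theorem fU_self : ∀ u : U4, fU u u = 0 := by decide

theorem qU_add : ∀ u w : U4, qU (u + w) = qU u + qU w + fU u w := by decide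

theorem fU_comm : ∀ u w : U4, fU u w = fU w u := by decide

/-- Two orthogonal singular vectors are dependent. -/
theorem singular_orth : ∀ a u : U4, qU a = 0 → qU u = 0 → fU a u = 0 → a = 0 ∨ u = 0 ∨ a = u := by
  decide

/-- What is fixed by the even stabiliser of `x` is `0` or `x`. -/
theorem fixed_by_stab : ∀ x y : U4,
    (∀ a b : U4, qU a = 1 → qU b = 1 → tU a (tU b x) = x → tU a (tU b y) = y) → y = 0 ∨ y = x := by
  decide

/-- The standard non-orthogonal nonsingular pair. -/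
def a0 : U4 := (0, 0, 1, 0)

/-- The standard non-orthogonal nonsingular pair. -/
def u0 : U4 := (0, 0, 0, 1)

/-- The nonsingular vector orthogonal to the standard pair. -/
def c0 : U4 := (1, 1, 0, 0)

theorem move_first : ∀ a : U4, qU a = 1 →
    ∃ r s : U4, qU r = 1 ∧ qU s = 1 ∧ tU r (tU s a) = a0 := by decide

theorem move_second : ∀ u : U4, qU u = 1 → fU a0 u = 1 →
    ∃ r s : U4, qU r = 1 ∧ qU s = 1 ∧ tU r (tU s a0) = a0 ∧ tU r (tU s u) = u0 := by decide

theorem repr_aux : ∀ p₁ p₂ p₃ p₄ : ZMod 2, ∀ x : U4,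
    fU (p₂, p₁, p₄, p₃) x = x.1 * p₁ + x.2.1 * p₂ + x.2.2.1 * p₃ + x.2.2.2 * p₄ := by decide

theorem basis_expand : ∀ x : U4, x = (if x.1 = 1 then ((1, 0, 0, 0) : U4) else 0) +
    (if x.2.1 = 1 then ((0, 1, 0, 0) : U4) else 0) +
    (if x.2.2.1 = 1 then ((0, 0, 1, 0) : U4) else 0) +
    (if x.2.2.2 = 1 then ((0, 0, 0, 1) : U4) else 0) := by decide

/-- Every linear functional is given by the polar form. -/
theorem exists_repr (g : U4 → ZMod 2) (hg : ∀ x y, g (x + y) = g x + g y) :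
    ∃ w : U4, ∀ x, g x = fU w x := by
  refine ⟨(g (0, 1, 0, 0), g (1, 0, 0, 0), g (0, 0, 0, 1), g (0, 0, 1, 0)), fun x => ?_⟩
  have h0 : g 0 = 0 := by
    have := hg 0 0
    rw [add_zero] at this
    exact left_eq_add.mp this
  have hite : ∀ (b : ZMod 2) (e : U4), g (if b = 1 then e else 0) = b * g e := by
    intro b e
    obtain rfl | rfl := (show ∀ b : ZMod 2, b = 0 ∨ b = 1 by decide) b
    · simp [h0]
    · simp
  conv_lhs => rw [basis_expand x]
  rw [hg, hg, hg, hite, hite, hite, hite, repr_aux]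

theorem fU_inj : ∀ w w' : U4, (∀ x, fU w x = fU w' x) → w = w' := by decide

theorem fU_add_left : ∀ u u' w : U4, fU (u + u') w = fU u w + fU u' w := by decide

theorem pair_values : ∀ i j : ZMod 2,
    ∃ a' : U4, fU a' a0 + fU a' u0 = i ∧ fU a' u0 = j := by decide

theorem stab_pair : ∀ p₁ p₂ : U4, qU p₁ = 0 → qU p₂ = 0 → fU p₁ p₂ = 1 → fU a0 p₁ = 0 →
    fU u0 p₁ = 0 → fU a0 p₂ = 0 → fU u0 p₂ = 0 →
    (p₁ = ((1, 0, 0, 0) : U4) ∧ p₂ = ((0, 1, 0, 0) : U4)) ∨
      (p₁ = tU c0 (1, 0, 0, 0) ∧ p₂ = tU c0 (0, 1, 0, 0)) := by decide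

/-- An element of order five. -/
def g5U (x : U4) : U4 :=
  tU (0, 0, 0, 1) (tU (0, 0, 1, 0) (tU (0, 1, 0, 1) (tU (1, 0, 0, 1) x)))

theorem g5U_five : ∀ x : U4, g5U (g5U (g5U (g5U (g5U x)))) = x := by decide

theorem g5U_ne : g5U (1, 0, 0, 0) ≠ (1, 0, 0, 0) := by decide

end Cfsg.Agent.H73.Suz
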